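import Groth.Agent.DefSchLib.Affine
import Groth.Agent.AffDef.Trivial
import Groth.Prelude.Def_ArtFun4

/-!
# Sections of deformations of smooth schemes through a rational point
-/

universe u

open CategoryTheory AlgebraicGeometry IsLocalRing Limits

noncomputable section

namespace Groth.Agent.PtDefSect

open DefSchLib ArtFun ArtFun.Art

/-- A deformation of a smooth scheme over a local Artinian `k`-algebra has a section through every rational point. -/
theorem exists_section {k : Type u} [Field k] {X : Scheme.{u}} (x : X ⟶ specPt k) [Smooth x] {A : Art k k}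
    (ξ : ArtFun.DefSch X x A) (P : specPt k ⟶ X) (hP : P ≫ x = 𝟙 _) :
    ∃ σ : spec A ⟶ ξ.total, σ ≫ ξ.f = 𝟙 _ ∧ P ≫ ξ.i = specRes A ≫ σ := by
  let e : (A : Type u) →ₐ[k] k := A.res
  have he : Function.Surjective e.toRingHom := fun c => ⟨algebraMap k A c, e.commutes c⟩
  have hm : RingHom.ker e.toRingHom = maximalIdeal A :=
    IsLocalRing.eq_maximalIdeal (RingHom.ker_isMaximal_of_surjective _ he)
  let p₀ : (specPt k : Scheme.{u}) := (⟨⊥, Ideal.isPrime_bot⟩ : PrimeSpectrum k)
  obtain ⟨U, hU, hyU, -⟩ := exists_isAffineOpen_mem_and_subset (x := ξ.i (P p₀)) (U := ⊤) trivial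
  haveI : IsClosedImmersion (specRes A) := IsClosedImmersion.spec_of_surjective _ he
  haveI : IsClosedImmersion ξ.i := MorphismProperty.of_isPullback ξ.isPullback.flip inferInstance
  let V := ξ.i ⁻¹ᵁ U
  have hV : IsAffineOpen V := hU.preimage ξ.i
  obtain ⟨hπ, hcomm', hker⟩ := ker_app (e := e.toRingHom) he ξ.isPullback hU
  haveI := ξ.flat
  let φ : (A : Type u) →+* Γ(ξ.total, U) := str ξ.f U
  have hflat : φ.Flat := flat_str hU
  let π : Γ(ξ.total, U) →+* Γ(X, V) := (ξ.i.app U).hom
  let ι : k →+* Γ(X, V) := str x V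
  letI : Algebra k Γ(X, V) := ι.toAlgebra
  letI : Algebra k Γ(ξ.total, U) := (φ.comp (algebraMap k A)).toAlgebra
  have hcomm : π.comp φ = ι.comp e.toRingHom := RingHom.ext hcomm'
  let πA : Γ(ξ.total, U) →ₐ[k] Γ(X, V) :=
    { π with
      commutes' := fun c => (RingHom.congr_fun hcomm (algebraMap k A c)).trans (congrArg ι (e.commutes c)) }
  have hsm : Algebra.FormallySmooth k Γ(X, V) := by
    have h : Smooth (Spec.map (CommRingCat.ofHom ι)) := by rw [specMap_str x hV]; infer_instance
    have h3 : Algebra.Smooth k Γ(X, V) := ((HasRingHomProperty.Spec_iff (P := @Smooth)).1 h).toAlgebra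
    infer_instance
  have hnil : IsNilpotent (RingHom.ker (πA : Γ(ξ.total, U) →+* Γ(X, V))) := by
    obtain ⟨n, hn⟩ := isNilpotent_max (A : Type u)
    refine ⟨n, ?_⟩
    show (RingHom.ker π) ^ n = 0
    rw [hker, hm, ← Ideal.map_pow, hn, Submodule.zero_eq_bot, Ideal.map_bot]
    rfl
  let s : Γ(X, V) →ₐ[k] Γ(ξ.total, U) := Algebra.FormallySmooth.liftOfSurjective (AlgHom.id k _) πA hπ hnil
  have hs : π.comp s.toRingHom = RingHom.id _ := RingHom.ext fun b =>
    Algebra.FormallySmooth.liftOfSurjective_apply (AlgHom.id k _) πA hπ hnil b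
  have hsk : s.toRingHom.comp (algebraMap k Γ(X, V)) = φ.comp (algebraMap k A) := RingHom.ext fun c => s.commutes c
  obtain ⟨ψ, hψ2, hψ1, -⟩ := AffDef.exists_iso_trivial (B₀ := Γ(X, V)) (B := Γ(ξ.total, U)) e
    (Spec (CommRingCat.of Γ(ξ.total, U))) (Spec.map (CommRingCat.ofHom φ)) (Spec.map (CommRingCat.ofHom π)) φ hflat π
    (Iso.refl _) (Category.id_comp _) (Category.comp_id _) hcomm hker s.toRingHom hs hsk
  -- the point in the chart
  have hPV : (⊤ : (specPt k).Opens) ≤ P ⁻¹ᵁ V := by
    intro q _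
    have hq : q = p₀ := PrimeSpectrum.ext (Ideal.eq_bot_of_prime q.asIdeal)
    subst hq
    exact hyU
  let pt : Γ(X, V) ⟶ CommRingCat.of k := P.appLE V ⊤ hPV ≫ (Scheme.ΓSpecIso (CommRingCat.of k)).hom
  have hpt : Spec.map pt ≫ hV.fromSpec = P := by
    rw [Spec.map_comp, Category.assoc, IsAffineOpen.SpecMap_appLE_fromSpec P hV (isAffineOpen_top _) hPV,
      IsAffineOpen.fromSpec_top, ← Category.assoc, Scheme.isoSpec_Spec_inv, ← Spec.map_comp, Iso.inv_hom_id,
      Spec.map_id, Category.id_comp]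
  have hptι : Spec.map pt ≫ Spec.map (CommRingCat.ofHom ι) = 𝟙 _ := by
    rw [specMap_str x hV, ← Category.assoc, hpt, hP]
  have hiU : Spec.map (CommRingCat.ofHom π) ≫ hU.fromSpec = hV.fromSpec ≫ ξ.i := by
    rw [CommRingCat.ofHom_hom, Scheme.Hom.app_eq_appLE, IsAffineOpen.SpecMap_appLE_fromSpec ξ.i hU hV le_rfl]
  let cst : spec A ⟶ pullback (Spec.map (CommRingCat.ofHom (algebraMap k Γ(X, V))))
      (Spec.map (CommRingCat.ofHom (algebraMap k A))) :=
    pullback.lift (Spec.map (CommRingCat.ofHom (algebraMap k A)) ≫ Spec.map pt) (𝟙 _)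
      (by rw [Category.assoc, show CommRingCat.ofHom (algebraMap k Γ(X, V)) = CommRingCat.ofHom ι from rfl, hptι,
        Category.comp_id, Category.id_comp])
  refine ⟨cst ≫ ψ.inv ≫ hU.fromSpec, ?_, ?_⟩
  · rw [Category.assoc, Category.assoc, ← specMap_str ξ.f hU]
    change cst ≫ ψ.inv ≫ Spec.map (CommRingCat.ofHom φ) = _
    rw [← hψ2, Iso.inv_hom_id_assoc, pullback.lift_snd]
  · have key : specRes A ≫ cst = (Spec.map pt ≫ Spec.map (CommRingCat.ofHom π)) ≫ ψ.hom := by
      have hres : specRes A ≫ Spec.map (CommRingCat.ofHom (algebraMap k A)) = 𝟙 _ := by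
        rw [← Spec.map_comp, ← CommRingCat.ofHom_comp, show A.res.toRingHom.comp (algebraMap k A) = RingHom.id k from
          RingHom.ext e.commutes, CommRingCat.ofHom_id, Spec.map_id]
      have hsq : Spec.map (CommRingCat.ofHom π) ≫ Spec.map (CommRingCat.ofHom φ) =
          Spec.map (CommRingCat.ofHom ι) ≫ specRes A := by
        rw [← Spec.map_comp, ← Spec.map_comp, ← CommRingCat.ofHom_comp, ← CommRingCat.ofHom_comp]
        exact congrArg (fun r => Spec.map (CommRingCat.ofHom r)) hcomm
      apply pullback.hom_ext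
      · simp only [Category.assoc, cst, pullback.lift_fst]
        rw [← Category.assoc, hres, Category.id_comp, hψ1]
        exact (Category.comp_id _).symm
      · simp only [Category.assoc, cst, pullback.lift_snd, hψ2, hsq]
        rw [← Category.assoc, hptι, Category.id_comp, Category.comp_id]
    rw [← Category.assoc (specRes A), key, Category.assoc, Iso.hom_inv_id_assoc, Category.assoc, hiU,
      ← Category.assoc, hpt]

end Groth.Agent.PtDefSect
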